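import Cfsg.Agent.Lib.H6.ONOrb.Data

set_option autoImplicit false
set_option maxRecDepth 1000000

/-! # orbit checks, part 1 (generated) -/

namespace Cfsg.Agent.Lib.H6.ONOrb

open Cfsg.Agent.Lib.H17.CosetCert Cfsg.Agent.Lib.H6.PermTab

set_option maxHeartbeats 0 in
theorem orb0_8 : checkOrb Cfsg.Agent.Lib.H6.ONPerm.T R m0 1 2 6 32768 4096 = true := by
  decide +kernel

set_option maxHeartbeats 0 in
theorem orb1_8 : checkOrb Cfsg.Agent.Lib.H6.ONPerm.T R m1 6 2 6 32768 4096 = true := by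
  decide +kernel

set_option maxHeartbeats 0 in
theorem orb2_8 : checkOrb Cfsg.Agent.Lib.H6.ONPerm.T R m2 12 2 6 32768 4096 = true := by
  decide +kernel

set_option maxHeartbeats 0 in
theorem orb3_8 : checkOrb Cfsg.Agent.Lib.H6.ONPerm.T R m3 32 2 6 32768 4096 = true := by
  decide +kernel

set_option maxHeartbeats 0 in
theorem orb0_9 : checkOrb Cfsg.Agent.Lib.H6.ONPerm.T R m0 1 2 6 36864 4096 = true := by
  decide +kernel

set_option maxHeartbeats 0 in
theorem orb1_9 : checkOrb Cfsg.Agent.Lib.H6.ONPerm.T R m1 6 2 6 36864 4096 = true := by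
  decide +kernel

set_option maxHeartbeats 0 in
theorem orb2_9 : checkOrb Cfsg.Agent.Lib.H6.ONPerm.T R m2 12 2 6 36864 4096 = true := by
  decide +kernel

set_option maxHeartbeats 0 in
theorem orb3_9 : checkOrb Cfsg.Agent.Lib.H6.ONPerm.T R m3 32 2 6 36864 4096 = true := by
  decide +kernel

set_option maxHeartbeats 0 in
theorem orb0_10 : checkOrb Cfsg.Agent.Lib.H6.ONPerm.T R m0 1 2 6 40960 4096 = true := by
  decide +kernel

set_option maxHeartbeats 0 in
theorem orb1_10 : checkOrb Cfsg.Agent.Lib.H6.ONPerm.T R m1 6 2 6 40960 4096 = true := by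
  decide +kernel

set_option maxHeartbeats 0 in
theorem orb2_10 : checkOrb Cfsg.Agent.Lib.H6.ONPerm.T R m2 12 2 6 40960 4096 = true := by
  decide +kernel

set_option maxHeartbeats 0 in
theorem orb3_10 : checkOrb Cfsg.Agent.Lib.H6.ONPerm.T R m3 32 2 6 40960 4096 = true := by
  decide +kernel

set_option maxHeartbeats 0 in
theorem orb0_11 : checkOrb Cfsg.Agent.Lib.H6.ONPerm.T R m0 1 2 6 45056 4096 = true := by
  decide +kernel

set_option maxHeartbeats 0 in
theorem orb1_11 : checkOrb Cfsg.Agent.Lib.H6.ONPerm.T R m1 6 2 6 45056 4096 = true := by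
  decide +kernel

set_option maxHeartbeats 0 in
theorem orb2_11 : checkOrb Cfsg.Agent.Lib.H6.ONPerm.T R m2 12 2 6 45056 4096 = true := by
  decide +kernel

set_option maxHeartbeats 0 in
theorem orb3_11 : checkOrb Cfsg.Agent.Lib.H6.ONPerm.T R m3 32 2 6 45056 4096 = true := by
  decide +kernel

set_option maxHeartbeats 0 in
theorem orb0_12 : checkOrb Cfsg.Agent.Lib.H6.ONPerm.T R m0 1 2 6 49152 4096 = true := by
  decide +kernel

set_option maxHeartbeats 0 in
theorem orb1_12 : checkOrb Cfsg.Agent.Lib.H6.ONPerm.T R m1 6 2 6 49152 4096 = true := by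
  decide +kernel

set_option maxHeartbeats 0 in
theorem orb2_12 : checkOrb Cfsg.Agent.Lib.H6.ONPerm.T R m2 12 2 6 49152 4096 = true := by
  decide +kernel

set_option maxHeartbeats 0 in
theorem orb3_12 : checkOrb Cfsg.Agent.Lib.H6.ONPerm.T R m3 32 2 6 49152 4096 = true := by
  decide +kernel

set_option maxHeartbeats 0 in
theorem orb0_13 : checkOrb Cfsg.Agent.Lib.H6.ONPerm.T R m0 1 2 6 53248 4096 = true := by
  decide +kernel

set_option maxHeartbeats 0 in
theorem orb1_13 : checkOrb Cfsg.Agent.Lib.H6.ONPerm.T R m1 6 2 6 53248 4096 = true := by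
  decide +kernel

set_option maxHeartbeats 0 in
theorem orb2_13 : checkOrb Cfsg.Agent.Lib.H6.ONPerm.T R m2 12 2 6 53248 4096 = true := by
  decide +kernel

set_option maxHeartbeats 0 in
theorem orb3_13 : checkOrb Cfsg.Agent.Lib.H6.ONPerm.T R m3 32 2 6 53248 4096 = true := by
  decide +kernel

set_option maxHeartbeats 0 in
theorem orb0_14 : checkOrb Cfsg.Agent.Lib.H6.ONPerm.T R m0 1 2 6 57344 4096 = true := by
  decide +kernel

set_option maxHeartbeats 0 in
theorem orb1_14 : checkOrb Cfsg.Agent.Lib.H6.ONPerm.T R m1 6 2 6 57344 4096 = true := by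
  decide +kernel

set_option maxHeartbeats 0 in
theorem orb2_14 : checkOrb Cfsg.Agent.Lib.H6.ONPerm.T R m2 12 2 6 57344 4096 = true := by
  decide +kernel

set_option maxHeartbeats 0 in
theorem orb3_14 : checkOrb Cfsg.Agent.Lib.H6.ONPerm.T R m3 32 2 6 57344 4096 = true := by
  decide +kernel

set_option maxHeartbeats 0 in
theorem orb0_15 : checkOrb Cfsg.Agent.Lib.H6.ONPerm.T R m0 1 2 6 61440 4096 = true := by
  decide +kernel

set_option maxHeartbeats 0 in
theorem orb1_15 : checkOrb Cfsg.Agent.Lib.H6.ONPerm.T R m1 6 2 6 61440 4096 = true := by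
  decide +kernel

set_option maxHeartbeats 0 in
theorem orb2_15 : checkOrb Cfsg.Agent.Lib.H6.ONPerm.T R m2 12 2 6 61440 4096 = true := by
  decide +kernel

set_option maxHeartbeats 0 in
theorem orb3_15 : checkOrb Cfsg.Agent.Lib.H6.ONPerm.T R m3 32 2 6 61440 4096 = true := by
  decide +kernel

end Cfsg.Agent.Lib.H6.ONOrb
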