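import Cfsg.Agent.Lib.H6.ONOrb.Data

set_option autoImplicit false
set_option maxRecDepth 1000000

/-! # orbit checks, part 2 (generated) -/

namespace Cfsg.Agent.Lib.H6.ONOrb

open Cfsg.Agent.Lib.H17.CosetCert Cfsg.Agent.Lib.H6.PermTab

set_option maxHeartbeats 0 in
theorem orb0_16 : checkOrb Cfsg.Agent.Lib.H6.ONPerm.T R m0 1 2 6 65536 4096 = true := by
  decide +kernel

set_option maxHeartbeats 0 in
theorem orb1_16 : checkOrb Cfsg.Agent.Lib.H6.ONPerm.T R m1 6 2 6 65536 4096 = true := by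
  decide +kernel

set_option maxHeartbeats 0 in
theorem orb2_16 : checkOrb Cfsg.Agent.Lib.H6.ONPerm.T R m2 12 2 6 65536 4096 = true := by
  decide +kernel

set_option maxHeartbeats 0 in
theorem orb3_16 : checkOrb Cfsg.Agent.Lib.H6.ONPerm.T R m3 32 2 6 65536 4096 = true := by
  decide +kernel

set_option maxHeartbeats 0 in
theorem orb0_17 : checkOrb Cfsg.Agent.Lib.H6.ONPerm.T R m0 1 2 6 69632 4096 = true := by
  decide +kernel

set_option maxHeartbeats 0 in
theorem orb1_17 : checkOrb Cfsg.Agent.Lib.H6.ONPerm.T R m1 6 2 6 69632 4096 = true := by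
  decide +kernel

set_option maxHeartbeats 0 in
theorem orb2_17 : checkOrb Cfsg.Agent.Lib.H6.ONPerm.T R m2 12 2 6 69632 4096 = true := by
  decide +kernel

set_option maxHeartbeats 0 in
theorem orb3_17 : checkOrb Cfsg.Agent.Lib.H6.ONPerm.T R m3 32 2 6 69632 4096 = true := by
  decide +kernel

set_option maxHeartbeats 0 in
theorem orb0_18 : checkOrb Cfsg.Agent.Lib.H6.ONPerm.T R m0 1 2 6 73728 4096 = true := by
  decide +kernel

set_option maxHeartbeats 0 in
theorem orb1_18 : checkOrb Cfsg.Agent.Lib.H6.ONPerm.T R m1 6 2 6 73728 4096 = true := by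
  decide +kernel

set_option maxHeartbeats 0 in
theorem orb2_18 : checkOrb Cfsg.Agent.Lib.H6.ONPerm.T R m2 12 2 6 73728 4096 = true := by
  decide +kernel

set_option maxHeartbeats 0 in
theorem orb3_18 : checkOrb Cfsg.Agent.Lib.H6.ONPerm.T R m3 32 2 6 73728 4096 = true := by
  decide +kernel

set_option maxHeartbeats 0 in
theorem orb0_19 : checkOrb Cfsg.Agent.Lib.H6.ONPerm.T R m0 1 2 6 77824 4096 = true := by
  decide +kernel

set_option maxHeartbeats 0 in
theorem orb1_19 : checkOrb Cfsg.Agent.Lib.H6.ONPerm.T R m1 6 2 6 77824 4096 = true := by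
  decide +kernel

set_option maxHeartbeats 0 in
theorem orb2_19 : checkOrb Cfsg.Agent.Lib.H6.ONPerm.T R m2 12 2 6 77824 4096 = true := by
  decide +kernel

set_option maxHeartbeats 0 in
theorem orb3_19 : checkOrb Cfsg.Agent.Lib.H6.ONPerm.T R m3 32 2 6 77824 4096 = true := by
  decide +kernel

set_option maxHeartbeats 0 in
theorem orb0_20 : checkOrb Cfsg.Agent.Lib.H6.ONPerm.T R m0 1 2 6 81920 4096 = true := by
  decide +kernel

set_option maxHeartbeats 0 in
theorem orb1_20 : checkOrb Cfsg.Agent.Lib.H6.ONPerm.T R m1 6 2 6 81920 4096 = true := by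
  decide +kernel

set_option maxHeartbeats 0 in
theorem orb2_20 : checkOrb Cfsg.Agent.Lib.H6.ONPerm.T R m2 12 2 6 81920 4096 = true := by
  decide +kernel

set_option maxHeartbeats 0 in
theorem orb3_20 : checkOrb Cfsg.Agent.Lib.H6.ONPerm.T R m3 32 2 6 81920 4096 = true := by
  decide +kernel

set_option maxHeartbeats 0 in
theorem orb0_21 : checkOrb Cfsg.Agent.Lib.H6.ONPerm.T R m0 1 2 6 86016 4096 = true := by
  decide +kernel

set_option maxHeartbeats 0 in
theorem orb1_21 : checkOrb Cfsg.Agent.Lib.H6.ONPerm.T R m1 6 2 6 86016 4096 = true := by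
  decide +kernel

set_option maxHeartbeats 0 in
theorem orb2_21 : checkOrb Cfsg.Agent.Lib.H6.ONPerm.T R m2 12 2 6 86016 4096 = true := by
  decide +kernel

set_option maxHeartbeats 0 in
theorem orb3_21 : checkOrb Cfsg.Agent.Lib.H6.ONPerm.T R m3 32 2 6 86016 4096 = true := by
  decide +kernel

set_option maxHeartbeats 0 in
theorem orb0_22 : checkOrb Cfsg.Agent.Lib.H6.ONPerm.T R m0 1 2 6 90112 4096 = true := by
  decide +kernel

set_option maxHeartbeats 0 in
theorem orb1_22 : checkOrb Cfsg.Agent.Lib.H6.ONPerm.T R m1 6 2 6 90112 4096 = true := by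
  decide +kernel

set_option maxHeartbeats 0 in
theorem orb2_22 : checkOrb Cfsg.Agent.Lib.H6.ONPerm.T R m2 12 2 6 90112 4096 = true := by
  decide +kernel

set_option maxHeartbeats 0 in
theorem orb3_22 : checkOrb Cfsg.Agent.Lib.H6.ONPerm.T R m3 32 2 6 90112 4096 = true := by
  decide +kernel

set_option maxHeartbeats 0 in
theorem orb0_23 : checkOrb Cfsg.Agent.Lib.H6.ONPerm.T R m0 1 2 6 94208 4096 = true := by
  decide +kernel

set_option maxHeartbeats 0 in
theorem orb1_23 : checkOrb Cfsg.Agent.Lib.H6.ONPerm.T R m1 6 2 6 94208 4096 = true := by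
  decide +kernel

set_option maxHeartbeats 0 in
theorem orb2_23 : checkOrb Cfsg.Agent.Lib.H6.ONPerm.T R m2 12 2 6 94208 4096 = true := by
  decide +kernel

set_option maxHeartbeats 0 in
theorem orb3_23 : checkOrb Cfsg.Agent.Lib.H6.ONPerm.T R m3 32 2 6 94208 4096 = true := by
  decide +kernel

end Cfsg.Agent.Lib.H6.ONOrb
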