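import Cfsg.Agent.Lib.H6.ONOrb.Data

set_option autoImplicit false
set_option maxRecDepth 1000000

/-! # orbit checks, part 3 (generated) -/

namespace Cfsg.Agent.Lib.H6.ONOrb

open Cfsg.Agent.Lib.H17.CosetCert Cfsg.Agent.Lib.H6.PermTab

set_option maxHeartbeats 0 in
theorem orb0_24 : checkOrb Cfsg.Agent.Lib.H6.ONPerm.T R m0 1 2 6 98304 4096 = true := by
  decide +kernel

set_option maxHeartbeats 0 in
theorem orb1_24 : checkOrb Cfsg.Agent.Lib.H6.ONPerm.T R m1 6 2 6 98304 4096 = true := by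
  decide +kernel

set_option maxHeartbeats 0 in
theorem orb2_24 : checkOrb Cfsg.Agent.Lib.H6.ONPerm.T R m2 12 2 6 98304 4096 = true := by
  decide +kernel

set_option maxHeartbeats 0 in
theorem orb3_24 : checkOrb Cfsg.Agent.Lib.H6.ONPerm.T R m3 32 2 6 98304 4096 = true := by
  decide +kernel

set_option maxHeartbeats 0 in
theorem orb0_25 : checkOrb Cfsg.Agent.Lib.H6.ONPerm.T R m0 1 2 6 102400 4096 = true := by
  decide +kernel

set_option maxHeartbeats 0 in
theorem orb1_25 : checkOrb Cfsg.Agent.Lib.H6.ONPerm.T R m1 6 2 6 102400 4096 = true := by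
  decide +kernel

set_option maxHeartbeats 0 in
theorem orb2_25 : checkOrb Cfsg.Agent.Lib.H6.ONPerm.T R m2 12 2 6 102400 4096 = true := by
  decide +kernel

set_option maxHeartbeats 0 in
theorem orb3_25 : checkOrb Cfsg.Agent.Lib.H6.ONPerm.T R m3 32 2 6 102400 4096 = true := by
  decide +kernel

set_option maxHeartbeats 0 in
theorem orb0_26 : checkOrb Cfsg.Agent.Lib.H6.ONPerm.T R m0 1 2 6 106496 4096 = true := by
  decide +kernel

set_option maxHeartbeats 0 in
theorem orb1_26 : checkOrb Cfsg.Agent.Lib.H6.ONPerm.T R m1 6 2 6 106496 4096 = true := by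
  decide +kernel

set_option maxHeartbeats 0 in
theorem orb2_26 : checkOrb Cfsg.Agent.Lib.H6.ONPerm.T R m2 12 2 6 106496 4096 = true := by
  decide +kernel

set_option maxHeartbeats 0 in
theorem orb3_26 : checkOrb Cfsg.Agent.Lib.H6.ONPerm.T R m3 32 2 6 106496 4096 = true := by
  decide +kernel

set_option maxHeartbeats 0 in
theorem orb0_27 : checkOrb Cfsg.Agent.Lib.H6.ONPerm.T R m0 1 2 6 110592 4096 = true := by
  decide +kernel

set_option maxHeartbeats 0 in
theorem orb1_27 : checkOrb Cfsg.Agent.Lib.H6.ONPerm.T R m1 6 2 6 110592 4096 = true := by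
  decide +kernel

set_option maxHeartbeats 0 in
theorem orb2_27 : checkOrb Cfsg.Agent.Lib.H6.ONPerm.T R m2 12 2 6 110592 4096 = true := by
  decide +kernel

set_option maxHeartbeats 0 in
theorem orb3_27 : checkOrb Cfsg.Agent.Lib.H6.ONPerm.T R m3 32 2 6 110592 4096 = true := by
  decide +kernel

set_option maxHeartbeats 0 in
theorem orb0_28 : checkOrb Cfsg.Agent.Lib.H6.ONPerm.T R m0 1 2 6 114688 4096 = true := by
  decide +kernel

set_option maxHeartbeats 0 in
theorem orb1_28 : checkOrb Cfsg.Agent.Lib.H6.ONPerm.T R m1 6 2 6 114688 4096 = true := by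
  decide +kernel

set_option maxHeartbeats 0 in
theorem orb2_28 : checkOrb Cfsg.Agent.Lib.H6.ONPerm.T R m2 12 2 6 114688 4096 = true := by
  decide +kernel

set_option maxHeartbeats 0 in
theorem orb3_28 : checkOrb Cfsg.Agent.Lib.H6.ONPerm.T R m3 32 2 6 114688 4096 = true := by
  decide +kernel

set_option maxHeartbeats 0 in
theorem orb0_29 : checkOrb Cfsg.Agent.Lib.H6.ONPerm.T R m0 1 2 6 118784 3976 = true := by
  decide +kernel

set_option maxHeartbeats 0 in
theorem orb1_29 : checkOrb Cfsg.Agent.Lib.H6.ONPerm.T R m1 6 2 6 118784 3976 = true := by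
  decide +kernel

set_option maxHeartbeats 0 in
theorem orb2_29 : checkOrb Cfsg.Agent.Lib.H6.ONPerm.T R m2 12 2 6 118784 3976 = true := by
  decide +kernel

set_option maxHeartbeats 0 in
theorem orb3_29 : checkOrb Cfsg.Agent.Lib.H6.ONPerm.T R m3 32 2 6 118784 3976 = true := by
  decide +kernel

end Cfsg.Agent.Lib.H6.ONOrb
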