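import Cfsg.Agent.Lib.H6.ONOrb.Chk0
import Cfsg.Agent.Lib.H6.ONOrb.Chk1
import Cfsg.Agent.Lib.H6.ONOrb.Chk2
import Cfsg.Agent.Lib.H6.ONOrb.Chk3

set_option autoImplicit false
set_option maxRecDepth 1000000

/-! # orbit checks assembled (generated) -/

namespace Cfsg.Agent.Lib.H6.ONOrb

open Cfsg.Agent.Lib.H17.CosetCert Cfsg.Agent.Lib.H6.PermTab

theorem orb0_all : ∀ i < 122760, tb m0 i = true → i = 1 ∨ ∃ x, 2 ≤ x ∧ x < 2 + 6 ∧ tb m0 (Cfsg.Agent.Lib.H6.ONPerm.T x i) = true ∧ R (Cfsg.Agent.Lib.H6.ONPerm.T x i) < R i := by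
  intro i hi
  have hk : i / 4096 < 30 := by omega
  have h1 : i / 4096 * 4096 ≤ i := Nat.div_mul_le_self i 4096
  have h2 : i < i / 4096 * 4096 + 4096 := by have := Nat.lt_div_mul_add (a := i) (b := 4096) (by norm_num); omega
  generalize i / 4096 = k at hk h1 h2
  interval_cases k
  · exact checkOrb_sound _ _ _ _ _ _ _ _ orb0_0 i (by omega) (by omega)
  · exact checkOrb_sound _ _ _ _ _ _ _ _ orb0_1 i (by omega) (by omega)
  · exact checkOrb_sound _ _ _ _ _ _ _ _ orb0_2 i (by omega) (by omega)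
  · exact checkOrb_sound _ _ _ _ _ _ _ _ orb0_3 i (by omega) (by omega)
  · exact checkOrb_sound _ _ _ _ _ _ _ _ orb0_4 i (by omega) (by omega)
  · exact checkOrb_sound _ _ _ _ _ _ _ _ orb0_5 i (by omega) (by omega)
  · exact checkOrb_sound _ _ _ _ _ _ _ _ orb0_6 i (by omega) (by omega)
  · exact checkOrb_sound _ _ _ _ _ _ _ _ orb0_7 i (by omega) (by omega)
  · exact checkOrb_sound _ _ _ _ _ _ _ _ orb0_8 i (by omega) (by omega)
  · exact checkOrb_sound _ _ _ _ _ _ _ _ orb0_9 i (by omega) (by omega)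
  · exact checkOrb_sound _ _ _ _ _ _ _ _ orb0_10 i (by omega) (by omega)
  · exact checkOrb_sound _ _ _ _ _ _ _ _ orb0_11 i (by omega) (by omega)
  · exact checkOrb_sound _ _ _ _ _ _ _ _ orb0_12 i (by omega) (by omega)
  · exact checkOrb_sound _ _ _ _ _ _ _ _ orb0_13 i (by omega) (by omega)
  · exact checkOrb_sound _ _ _ _ _ _ _ _ orb0_14 i (by omega) (by omega)
  · exact checkOrb_sound _ _ _ _ _ _ _ _ orb0_15 i (by omega) (by omega)
  · exact checkOrb_sound _ _ _ _ _ _ _ _ orb0_16 i (by omega) (by omega)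
  · exact checkOrb_sound _ _ _ _ _ _ _ _ orb0_17 i (by omega) (by omega)
  · exact checkOrb_sound _ _ _ _ _ _ _ _ orb0_18 i (by omega) (by omega)
  · exact checkOrb_sound _ _ _ _ _ _ _ _ orb0_19 i (by omega) (by omega)
  · exact checkOrb_sound _ _ _ _ _ _ _ _ orb0_20 i (by omega) (by omega)
  · exact checkOrb_sound _ _ _ _ _ _ _ _ orb0_21 i (by omega) (by omega)
  · exact checkOrb_sound _ _ _ _ _ _ _ _ orb0_22 i (by omega) (by omega)
  · exact checkOrb_sound _ _ _ _ _ _ _ _ orb0_23 i (by omega) (by omega)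
  · exact checkOrb_sound _ _ _ _ _ _ _ _ orb0_24 i (by omega) (by omega)
  · exact checkOrb_sound _ _ _ _ _ _ _ _ orb0_25 i (by omega) (by omega)
  · exact checkOrb_sound _ _ _ _ _ _ _ _ orb0_26 i (by omega) (by omega)
  · exact checkOrb_sound _ _ _ _ _ _ _ _ orb0_27 i (by omega) (by omega)
  · exact checkOrb_sound _ _ _ _ _ _ _ _ orb0_28 i (by omega) (by omega)
  · exact checkOrb_sound _ _ _ _ _ _ _ _ orb0_29 i (by omega) (by omega)

theorem orb1_all : ∀ i < 122760, tb m1 i = true → i = 6 ∨ ∃ x, 2 ≤ x ∧ x < 2 + 6 ∧ tb m1 (Cfsg.Agent.Lib.H6.ONPerm.T x i) = true ∧ R (Cfsg.Agent.Lib.H6.ONPerm.T x i) < R i := by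
  intro i hi
  have hk : i / 4096 < 30 := by omega
  have h1 : i / 4096 * 4096 ≤ i := Nat.div_mul_le_self i 4096
  have h2 : i < i / 4096 * 4096 + 4096 := by have := Nat.lt_div_mul_add (a := i) (b := 4096) (by norm_num); omega
  generalize i / 4096 = k at hk h1 h2
  interval_cases k
  · exact checkOrb_sound _ _ _ _ _ _ _ _ orb1_0 i (by omega) (by omega)
  · exact checkOrb_sound _ _ _ _ _ _ _ _ orb1_1 i (by omega) (by omega)
  · exact checkOrb_sound _ _ _ _ _ _ _ _ orb1_2 i (by omega) (by omega)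
  · exact checkOrb_sound _ _ _ _ _ _ _ _ orb1_3 i (by omega) (by omega)
  · exact checkOrb_sound _ _ _ _ _ _ _ _ orb1_4 i (by omega) (by omega)
  · exact checkOrb_sound _ _ _ _ _ _ _ _ orb1_5 i (by omega) (by omega)
  · exact checkOrb_sound _ _ _ _ _ _ _ _ orb1_6 i (by omega) (by omega)
  · exact checkOrb_sound _ _ _ _ _ _ _ _ orb1_7 i (by omega) (by omega)
  · exact checkOrb_sound _ _ _ _ _ _ _ _ orb1_8 i (by omega) (by omega)
  · exact checkOrb_sound _ _ _ _ _ _ _ _ orb1_9 i (by omega) (by omega)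
  · exact checkOrb_sound _ _ _ _ _ _ _ _ orb1_10 i (by omega) (by omega)
  · exact checkOrb_sound _ _ _ _ _ _ _ _ orb1_11 i (by omega) (by omega)
  · exact checkOrb_sound _ _ _ _ _ _ _ _ orb1_12 i (by omega) (by omega)
  · exact checkOrb_sound _ _ _ _ _ _ _ _ orb1_13 i (by omega) (by omega)
  · exact checkOrb_sound _ _ _ _ _ _ _ _ orb1_14 i (by omega) (by omega)
  · exact checkOrb_sound _ _ _ _ _ _ _ _ orb1_15 i (by omega) (by omega)
  · exact checkOrb_sound _ _ _ _ _ _ _ _ orb1_16 i (by omega) (by omega)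
  · exact checkOrb_sound _ _ _ _ _ _ _ _ orb1_17 i (by omega) (by omega)
  · exact checkOrb_sound _ _ _ _ _ _ _ _ orb1_18 i (by omega) (by omega)
  · exact checkOrb_sound _ _ _ _ _ _ _ _ orb1_19 i (by omega) (by omega)
  · exact checkOrb_sound _ _ _ _ _ _ _ _ orb1_20 i (by omega) (by omega)
  · exact checkOrb_sound _ _ _ _ _ _ _ _ orb1_21 i (by omega) (by omega)
  · exact checkOrb_sound _ _ _ _ _ _ _ _ orb1_22 i (by omega) (by omega)
  · exact checkOrb_sound _ _ _ _ _ _ _ _ orb1_23 i (by omega) (by omega)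
  · exact checkOrb_sound _ _ _ _ _ _ _ _ orb1_24 i (by omega) (by omega)
  · exact checkOrb_sound _ _ _ _ _ _ _ _ orb1_25 i (by omega) (by omega)
  · exact checkOrb_sound _ _ _ _ _ _ _ _ orb1_26 i (by omega) (by omega)
  · exact checkOrb_sound _ _ _ _ _ _ _ _ orb1_27 i (by omega) (by omega)
  · exact checkOrb_sound _ _ _ _ _ _ _ _ orb1_28 i (by omega) (by omega)
  · exact checkOrb_sound _ _ _ _ _ _ _ _ orb1_29 i (by omega) (by omega)

theorem orb2_all : ∀ i < 122760, tb m2 i = true → i = 12 ∨ ∃ x, 2 ≤ x ∧ x < 2 + 6 ∧ tb m2 (Cfsg.Agent.Lib.H6.ONPerm.T x i) = true ∧ R (Cfsg.Agent.Lib.H6.ONPerm.T x i) < R i := by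
  intro i hi
  have hk : i / 4096 < 30 := by omega
  have h1 : i / 4096 * 4096 ≤ i := Nat.div_mul_le_self i 4096
  have h2 : i < i / 4096 * 4096 + 4096 := by have := Nat.lt_div_mul_add (a := i) (b := 4096) (by norm_num); omega
  generalize i / 4096 = k at hk h1 h2
  interval_cases k
  · exact checkOrb_sound _ _ _ _ _ _ _ _ orb2_0 i (by omega) (by omega)
  · exact checkOrb_sound _ _ _ _ _ _ _ _ orb2_1 i (by omega) (by omega)
  · exact checkOrb_sound _ _ _ _ _ _ _ _ orb2_2 i (by omega) (by omega)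
  · exact checkOrb_sound _ _ _ _ _ _ _ _ orb2_3 i (by omega) (by omega)
  · exact checkOrb_sound _ _ _ _ _ _ _ _ orb2_4 i (by omega) (by omega)
  · exact checkOrb_sound _ _ _ _ _ _ _ _ orb2_5 i (by omega) (by omega)
  · exact checkOrb_sound _ _ _ _ _ _ _ _ orb2_6 i (by omega) (by omega)
  · exact checkOrb_sound _ _ _ _ _ _ _ _ orb2_7 i (by omega) (by omega)
  · exact checkOrb_sound _ _ _ _ _ _ _ _ orb2_8 i (by omega) (by omega)
  · exact checkOrb_sound _ _ _ _ _ _ _ _ orb2_9 i (by omega) (by omega)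
  · exact checkOrb_sound _ _ _ _ _ _ _ _ orb2_10 i (by omega) (by omega)
  · exact checkOrb_sound _ _ _ _ _ _ _ _ orb2_11 i (by omega) (by omega)
  · exact checkOrb_sound _ _ _ _ _ _ _ _ orb2_12 i (by omega) (by omega)
  · exact checkOrb_sound _ _ _ _ _ _ _ _ orb2_13 i (by omega) (by omega)
  · exact checkOrb_sound _ _ _ _ _ _ _ _ orb2_14 i (by omega) (by omega)
  · exact checkOrb_sound _ _ _ _ _ _ _ _ orb2_15 i (by omega) (by omega)
  · exact checkOrb_sound _ _ _ _ _ _ _ _ orb2_16 i (by omega) (by omega)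
  · exact checkOrb_sound _ _ _ _ _ _ _ _ orb2_17 i (by omega) (by omega)
  · exact checkOrb_sound _ _ _ _ _ _ _ _ orb2_18 i (by omega) (by omega)
  · exact checkOrb_sound _ _ _ _ _ _ _ _ orb2_19 i (by omega) (by omega)
  · exact checkOrb_sound _ _ _ _ _ _ _ _ orb2_20 i (by omega) (by omega)
  · exact checkOrb_sound _ _ _ _ _ _ _ _ orb2_21 i (by omega) (by omega)
  · exact checkOrb_sound _ _ _ _ _ _ _ _ orb2_22 i (by omega) (by omega)
  · exact checkOrb_sound _ _ _ _ _ _ _ _ orb2_23 i (by omega) (by omega)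
  · exact checkOrb_sound _ _ _ _ _ _ _ _ orb2_24 i (by omega) (by omega)
  · exact checkOrb_sound _ _ _ _ _ _ _ _ orb2_25 i (by omega) (by omega)
  · exact checkOrb_sound _ _ _ _ _ _ _ _ orb2_26 i (by omega) (by omega)
  · exact checkOrb_sound _ _ _ _ _ _ _ _ orb2_27 i (by omega) (by omega)
  · exact checkOrb_sound _ _ _ _ _ _ _ _ orb2_28 i (by omega) (by omega)
  · exact checkOrb_sound _ _ _ _ _ _ _ _ orb2_29 i (by omega) (by omega)

theorem orb3_all : ∀ i < 122760, tb m3 i = true → i = 32 ∨ ∃ x, 2 ≤ x ∧ x < 2 + 6 ∧ tb m3 (Cfsg.Agent.Lib.H6.ONPerm.T x i) = true ∧ R (Cfsg.Agent.Lib.H6.ONPerm.T x i) < R i := by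
  intro i hi
  have hk : i / 4096 < 30 := by omega
  have h1 : i / 4096 * 4096 ≤ i := Nat.div_mul_le_self i 4096
  have h2 : i < i / 4096 * 4096 + 4096 := by have := Nat.lt_div_mul_add (a := i) (b := 4096) (by norm_num); omega
  generalize i / 4096 = k at hk h1 h2
  interval_cases k
  · exact checkOrb_sound _ _ _ _ _ _ _ _ orb3_0 i (by omega) (by omega)
  · exact checkOrb_sound _ _ _ _ _ _ _ _ orb3_1 i (by omega) (by omega)
  · exact checkOrb_sound _ _ _ _ _ _ _ _ orb3_2 i (by omega) (by omega)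
  · exact checkOrb_sound _ _ _ _ _ _ _ _ orb3_3 i (by omega) (by omega)
  · exact checkOrb_sound _ _ _ _ _ _ _ _ orb3_4 i (by omega) (by omega)
  · exact checkOrb_sound _ _ _ _ _ _ _ _ orb3_5 i (by omega) (by omega)
  · exact checkOrb_sound _ _ _ _ _ _ _ _ orb3_6 i (by omega) (by omega)
  · exact checkOrb_sound _ _ _ _ _ _ _ _ orb3_7 i (by omega) (by omega)
  · exact checkOrb_sound _ _ _ _ _ _ _ _ orb3_8 i (by omega) (by omega)
  · exact checkOrb_sound _ _ _ _ _ _ _ _ orb3_9 i (by omega) (by omega)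
  · exact checkOrb_sound _ _ _ _ _ _ _ _ orb3_10 i (by omega) (by omega)
  · exact checkOrb_sound _ _ _ _ _ _ _ _ orb3_11 i (by omega) (by omega)
  · exact checkOrb_sound _ _ _ _ _ _ _ _ orb3_12 i (by omega) (by omega)
  · exact checkOrb_sound _ _ _ _ _ _ _ _ orb3_13 i (by omega) (by omega)
  · exact checkOrb_sound _ _ _ _ _ _ _ _ orb3_14 i (by omega) (by omega)
  · exact checkOrb_sound _ _ _ _ _ _ _ _ orb3_15 i (by omega) (by omega)
  · exact checkOrb_sound _ _ _ _ _ _ _ _ orb3_16 i (by omega) (by omega)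
  · exact checkOrb_sound _ _ _ _ _ _ _ _ orb3_17 i (by omega) (by omega)
  · exact checkOrb_sound _ _ _ _ _ _ _ _ orb3_18 i (by omega) (by omega)
  · exact checkOrb_sound _ _ _ _ _ _ _ _ orb3_19 i (by omega) (by omega)
  · exact checkOrb_sound _ _ _ _ _ _ _ _ orb3_20 i (by omega) (by omega)
  · exact checkOrb_sound _ _ _ _ _ _ _ _ orb3_21 i (by omega) (by omega)
  · exact checkOrb_sound _ _ _ _ _ _ _ _ orb3_22 i (by omega) (by omega)
  · exact checkOrb_sound _ _ _ _ _ _ _ _ orb3_23 i (by omega) (by omega)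
  · exact checkOrb_sound _ _ _ _ _ _ _ _ orb3_24 i (by omega) (by omega)
  · exact checkOrb_sound _ _ _ _ _ _ _ _ orb3_25 i (by omega) (by omega)
  · exact checkOrb_sound _ _ _ _ _ _ _ _ orb3_26 i (by omega) (by omega)
  · exact checkOrb_sound _ _ _ _ _ _ _ _ orb3_27 i (by omega) (by omega)
  · exact checkOrb_sound _ _ _ _ _ _ _ _ orb3_28 i (by omega) (by omega)
  · exact checkOrb_sound _ _ _ _ _ _ _ _ orb3_29 i (by omega) (by omega)

set_option maxHeartbeats 0 in
theorem count0 : countBits m0 122760 0 = 58653 := by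
  decide +kernel

set_option maxHeartbeats 0 in
theorem count1 : countBits m1 122760 0 = 52136 := by
  decide +kernel

set_option maxHeartbeats 0 in
theorem count2 : countBits m2 122760 0 = 5586 := by
  decide +kernel

set_option maxHeartbeats 0 in
theorem count3 : countBits m3 122760 0 = 6384 := by
  decide +kernel

set_option maxHeartbeats 0 in
theorem count_all : countBits (Nat.lor (Nat.lor (Nat.lor (Nat.lor m0 m1) m2) m3) 1) 122760 0 = 122760 := by
  decide +kernel

end Cfsg.Agent.Lib.H6.ONOrb
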