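import Cfsg.Agent.Lib.H6.ONOrb.Data

set_option autoImplicit false
set_option maxRecDepth 1000000

/-! # orbit checks, part 0 (generated) -/

namespace Cfsg.Agent.Lib.H6.ONOrb

open Cfsg.Agent.Lib.H17.CosetCert Cfsg.Agent.Lib.H6.PermTab

set_option maxHeartbeats 0 in
theorem orb0_0 : checkOrb Cfsg.Agent.Lib.H6.ONPerm.T R m0 1 2 6 0 4096 = true := by
  decide +kernel

set_option maxHeartbeats 0 in
theorem orb1_0 : checkOrb Cfsg.Agent.Lib.H6.ONPerm.T R m1 6 2 6 0 4096 = true := by
  decide +kernel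

set_option maxHeartbeats 0 in
theorem orb2_0 : checkOrb Cfsg.Agent.Lib.H6.ONPerm.T R m2 12 2 6 0 4096 = true := by
  decide +kernel

set_option maxHeartbeats 0 in
theorem orb3_0 : checkOrb Cfsg.Agent.Lib.H6.ONPerm.T R m3 32 2 6 0 4096 = true := by
  decide +kernel

set_option maxHeartbeats 0 in
theorem orb0_1 : checkOrb Cfsg.Agent.Lib.H6.ONPerm.T R m0 1 2 6 4096 4096 = true := by
  decide +kernel

set_option maxHeartbeats 0 in
theorem orb1_1 : checkOrb Cfsg.Agent.Lib.H6.ONPerm.T R m1 6 2 6 4096 4096 = true := by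
  decide +kernel

set_option maxHeartbeats 0 in
theorem orb2_1 : checkOrb Cfsg.Agent.Lib.H6.ONPerm.T R m2 12 2 6 4096 4096 = true := by
  decide +kernel

set_option maxHeartbeats 0 in
theorem orb3_1 : checkOrb Cfsg.Agent.Lib.H6.ONPerm.T R m3 32 2 6 4096 4096 = true := by
  decide +kernel

set_option maxHeartbeats 0 in
theorem orb0_2 : checkOrb Cfsg.Agent.Lib.H6.ONPerm.T R m0 1 2 6 8192 4096 = true := by
  decide +kernel

set_option maxHeartbeats 0 in
theorem orb1_2 : checkOrb Cfsg.Agent.Lib.H6.ONPerm.T R m1 6 2 6 8192 4096 = true := by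
  decide +kernel

set_option maxHeartbeats 0 in
theorem orb2_2 : checkOrb Cfsg.Agent.Lib.H6.ONPerm.T R m2 12 2 6 8192 4096 = true := by
  decide +kernel

set_option maxHeartbeats 0 in
theorem orb3_2 : checkOrb Cfsg.Agent.Lib.H6.ONPerm.T R m3 32 2 6 8192 4096 = true := by
  decide +kernel

set_option maxHeartbeats 0 in
theorem orb0_3 : checkOrb Cfsg.Agent.Lib.H6.ONPerm.T R m0 1 2 6 12288 4096 = true := by
  decide +kernel

set_option maxHeartbeats 0 in
theorem orb1_3 : checkOrb Cfsg.Agent.Lib.H6.ONPerm.T R m1 6 2 6 12288 4096 = true := by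
  decide +kernel

set_option maxHeartbeats 0 in
theorem orb2_3 : checkOrb Cfsg.Agent.Lib.H6.ONPerm.T R m2 12 2 6 12288 4096 = true := by
  decide +kernel

set_option maxHeartbeats 0 in
theorem orb3_3 : checkOrb Cfsg.Agent.Lib.H6.ONPerm.T R m3 32 2 6 12288 4096 = true := by
  decide +kernel

set_option maxHeartbeats 0 in
theorem orb0_4 : checkOrb Cfsg.Agent.Lib.H6.ONPerm.T R m0 1 2 6 16384 4096 = true := by
  decide +kernel

set_option maxHeartbeats 0 in
theorem orb1_4 : checkOrb Cfsg.Agent.Lib.H6.ONPerm.T R m1 6 2 6 16384 4096 = true := by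
  decide +kernel

set_option maxHeartbeats 0 in
theorem orb2_4 : checkOrb Cfsg.Agent.Lib.H6.ONPerm.T R m2 12 2 6 16384 4096 = true := by
  decide +kernel

set_option maxHeartbeats 0 in
theorem orb3_4 : checkOrb Cfsg.Agent.Lib.H6.ONPerm.T R m3 32 2 6 16384 4096 = true := by
  decide +kernel

set_option maxHeartbeats 0 in
theorem orb0_5 : checkOrb Cfsg.Agent.Lib.H6.ONPerm.T R m0 1 2 6 20480 4096 = true := by
  decide +kernel

set_option maxHeartbeats 0 in
theorem orb1_5 : checkOrb Cfsg.Agent.Lib.H6.ONPerm.T R m1 6 2 6 20480 4096 = true := by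
  decide +kernel

set_option maxHeartbeats 0 in
theorem orb2_5 : checkOrb Cfsg.Agent.Lib.H6.ONPerm.T R m2 12 2 6 20480 4096 = true := by
  decide +kernel

set_option maxHeartbeats 0 in
theorem orb3_5 : checkOrb Cfsg.Agent.Lib.H6.ONPerm.T R m3 32 2 6 20480 4096 = true := by
  decide +kernel

set_option maxHeartbeats 0 in
theorem orb0_6 : checkOrb Cfsg.Agent.Lib.H6.ONPerm.T R m0 1 2 6 24576 4096 = true := by
  decide +kernel

set_option maxHeartbeats 0 in
theorem orb1_6 : checkOrb Cfsg.Agent.Lib.H6.ONPerm.T R m1 6 2 6 24576 4096 = true := by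
  decide +kernel

set_option maxHeartbeats 0 in
theorem orb2_6 : checkOrb Cfsg.Agent.Lib.H6.ONPerm.T R m2 12 2 6 24576 4096 = true := by
  decide +kernel

set_option maxHeartbeats 0 in
theorem orb3_6 : checkOrb Cfsg.Agent.Lib.H6.ONPerm.T R m3 32 2 6 24576 4096 = true := by
  decide +kernel

set_option maxHeartbeats 0 in
theorem orb0_7 : checkOrb Cfsg.Agent.Lib.H6.ONPerm.T R m0 1 2 6 28672 4096 = true := by
  decide +kernel

set_option maxHeartbeats 0 in
theorem orb1_7 : checkOrb Cfsg.Agent.Lib.H6.ONPerm.T R m1 6 2 6 28672 4096 = true := by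
  decide +kernel

set_option maxHeartbeats 0 in
theorem orb2_7 : checkOrb Cfsg.Agent.Lib.H6.ONPerm.T R m2 12 2 6 28672 4096 = true := by
  decide +kernel

set_option maxHeartbeats 0 in
theorem orb3_7 : checkOrb Cfsg.Agent.Lib.H6.ONPerm.T R m3 32 2 6 28672 4096 = true := by
  decide +kernel

end Cfsg.Agent.Lib.H6.ONOrb
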